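import Mathlib

/-!
The ring `ℤ / p ^ n`: geometric sums of elements congruent to one, and the subgroups of the
alternating plane `(ℤ / p ^ n)²`.
-/

set_option autoImplicit false

namespace Cfsg.Agent.GenA.Metacyclic

open Finset

variable {p n : ℕ} [hp : Fact p.Prime]

local notation "𝕜" => ZMod (p ^ n)

omit hp in
theorem nilp : IsNilpotent (p : 𝕜) := ⟨n, by rw [← Nat.cast_pow, ZMod.natCast_self]⟩

theorem pow_eq_zero_iff {s : ℕ} : (p : 𝕜) ^ s = 0 ↔ n ≤ s := by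
  rw [← Nat.cast_pow, ZMod.natCast_eq_zero_iff]
  exact Nat.pow_dvd_pow_iff_le_right hp.out.one_lt

theorem exists_unit_mul_pow (x : 𝕜) : ∃ β ≤ n, ∃ u : 𝕜, IsUnit u ∧ x = u * (p : 𝕜) ^ β := by
  rcases eq_or_ne x.val 0 with h | h
  · refine ⟨n, le_rfl, 1, isUnit_one, ?_⟩
    rw [pow_eq_zero_iff.mpr le_rfl, mul_zero]
    exact (ZMod.val_eq_zero x).mp h
  obtain ⟨β, t, ht, hx⟩ := Nat.exists_eq_pow_mul_and_not_dvd h p hp.out.ne_one
  have hu : IsUnit (t : 𝕜) := (ZMod.isUnit_iff_coprime _ _).mpr (((hp.out.coprime_iff_not_dvd).mpr ht).symm.pow_right n)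
  have hxe : x = (t : 𝕜) * (p : 𝕜) ^ β := by
    rw [← ZMod.natCast_zmod_val x, hx]; push_cast; ring
  by_cases hb : β ≤ n
  · exact ⟨β, hb, t, hu, hxe⟩
  · refine ⟨n, le_rfl, 1, isUnit_one, ?_⟩
    rw [hxe, pow_eq_zero_iff.mpr (by omega : n ≤ β), pow_eq_zero_iff.mpr le_rfl, mul_zero, mul_zero]

theorem pow_mul_eq_zero {s : ℕ} (x : 𝕜) : (p : 𝕜) ^ s * x = 0 ↔ (p : 𝕜) ^ (n - s) ∣ x := by
  constructor
  · intro h
    obtain ⟨β, -, u, hu, rfl⟩ := exists_unit_mul_pow x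
    rw [mul_left_comm, hu.mul_right_eq_zero, ← pow_add, pow_eq_zero_iff] at h
    exact dvd_mul_of_dvd_right (pow_dvd_pow _ (by omega)) _
  · rintro ⟨y, rfl⟩
    rw [← mul_assoc, ← pow_add, pow_eq_zero_iff.mpr (by omega : n ≤ s + (n - s)), zero_mul]

theorem isUnit_or_dvd (x : 𝕜) : IsUnit x ∨ (p : 𝕜) ∣ x := by
  obtain ⟨β, -, u, hu, rfl⟩ := exists_unit_mul_pow x
  rcases Nat.eq_zero_or_pos β with rfl | hb
  · left; simpa using hu
  · right; exact dvd_mul_of_dvd_right (dvd_pow_self _ hb.ne') _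

theorem card_dvd (α : ℕ) (hα : α ≤ n) : Nat.card {x : 𝕜 // (p : 𝕜) ^ α ∣ x} = p ^ (n - α) := by
  have h : ∀ x : 𝕜, (p : 𝕜) ^ α ∣ x ↔ x ∈ AddSubgroup.zmultiples (((p ^ α : ℕ)) : 𝕜) := fun x => by
    rw [AddSubgroup.mem_zmultiples_iff]
    constructor
    · rintro ⟨y, rfl⟩
      refine ⟨(y.val : ℤ), ?_⟩
      rw [zsmul_eq_mul, mul_comm, Int.cast_natCast, ZMod.natCast_zmod_val, Nat.cast_pow]
    · rintro ⟨k, rfl⟩
      exact ⟨(k : 𝕜), by rw [zsmul_eq_mul, mul_comm, Nat.cast_pow]⟩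
  rw [Nat.card_congr (Equiv.subtypeEquivRight h)]
  rw [Nat.card_zmultiples, ZMod.addOrderOf_coe _ (pow_ne_zero n hp.out.ne_zero),
    Nat.gcd_eq_right (pow_dvd_pow p hα), Nat.pow_div hα hp.out.pos]

/-! ### geometric sums -/

omit hp in
theorem geom_mul (x : 𝕜) (a b : ℕ) :
    ∑ i ∈ range (a * b), x ^ i = (∑ i ∈ range a, x ^ i) * ∑ j ∈ range b, (x ^ a) ^ j := by
  induction b with
  | zero => simp
  | succ b ih =>
    rw [Nat.mul_succ, sum_range_add, ih, sum_range_succ _ b, mul_add, ← pow_mul, sum_mul, sum_mul]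
    congr 1
    refine Finset.sum_congr rfl fun i _ => ?_
    rw [pow_add, mul_comm]

theorem geom_prime (hodd : p ≠ 2) {x : 𝕜} (hx : (p : 𝕜) ∣ x - 1) :
    ∃ u : 𝕜, IsUnit u ∧ ∑ i ∈ range p, x ^ i = (p : 𝕜) * u := by
  obtain ⟨y, hy⟩ := hx
  obtain ⟨z, hz⟩ := odd_sq_dvd_geom_sum₂_sub (R := 𝕜) (a := 1) (b := y) (hp.out.odd_of_ne_two hodd)
  simp only [one_pow, mul_one] at hz
  refine ⟨1 + (p : 𝕜) * z, (Commute.isNilpotent_mul_right (Commute.all _ _) nilp).isUnit_one_add, ?_⟩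
  rw [show x = 1 + (p : 𝕜) * y by rw [← hy]; ring, eq_add_of_sub_eq hz]
  ring

omit hp in
theorem dvd_pow_sub_one {x : 𝕜} (hx : (p : 𝕜) ∣ x - 1) (k : ℕ) : (p : 𝕜) ∣ x ^ k - 1 :=
  hx.trans (sub_one_dvd_pow_sub_one x k)

theorem geom_pow (hodd : p ≠ 2) : ∀ (s : ℕ) {x : 𝕜}, (p : 𝕜) ∣ x - 1 →
    ∃ u : 𝕜, IsUnit u ∧ ∑ i ∈ range (p ^ s), x ^ i = (p : 𝕜) ^ s * u
  | 0, x, _ => ⟨1, isUnit_one, by simp⟩
  | s + 1, x, hx => by
    obtain ⟨u, hu, h1⟩ := geom_prime hodd hx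
    obtain ⟨v, hv, h2⟩ := geom_pow hodd s (dvd_pow_sub_one hx p)
    refine ⟨u * v, hu.mul hv, ?_⟩
    rw [pow_succ', geom_mul, h1, h2, pow_succ']
    ring

theorem geom_eq_zero_iff (hodd : p ≠ 2) {x : 𝕜} (hx : (p : 𝕜) ∣ x - 1) (d : ℕ) :
    ∑ i ∈ range d, x ^ i = 0 ↔ p ^ n ∣ d := by
  rcases eq_or_ne d 0 with rfl | hd
  · simp
  obtain ⟨s, t, ht, rfl⟩ := Nat.exists_eq_pow_mul_and_not_dvd hd p hp.out.ne_one
  obtain ⟨u, hu, h1⟩ := geom_pow hodd s hx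
  have h2 : IsUnit (∑ j ∈ range t, (x ^ (p ^ s)) ^ j) := by
    have htu : IsUnit (t : 𝕜) := (ZMod.isUnit_iff_coprime _ _).mpr (((hp.out.coprime_iff_not_dvd).mpr ht).symm.pow_right n)
    obtain ⟨z, hz⟩ : (p : 𝕜) ∣ (∑ j ∈ range t, (x ^ (p ^ s)) ^ j) - (t : 𝕜) := by
      rw [show (t : 𝕜) = ∑ _j ∈ range t, (1 : 𝕜) by simp, ← sum_sub_distrib]
      exact dvd_sum fun j _ => dvd_pow_sub_one (dvd_pow_sub_one hx _) j
    rw [eq_add_of_sub_eq' hz]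
    exact IsNilpotent.isUnit_add_left_of_commute (Commute.isNilpotent_mul_right (Commute.all _ _) nilp) htu (Commute.all _ _)
  rw [geom_mul, h1, (h2).mul_left_eq_zero, hu.mul_left_eq_zero, pow_eq_zero_iff]
  constructor
  · exact fun h => dvd_mul_of_dvd_left (pow_dvd_pow p h) t
  · intro h
    exact (Nat.pow_dvd_pow_iff_le_right hp.out.one_lt).mp
      ((((hp.out.coprime_iff_not_dvd).mpr ht).pow_left n).dvd_of_dvd_mul_right h)

theorem geom_add (x : 𝕜) (a b : ℕ) :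
    ∑ i ∈ range (a + b), x ^ i = (∑ i ∈ range a, x ^ i) + x ^ a * ∑ i ∈ range b, x ^ i := by
  rw [sum_range_add, mul_sum]
  simp [pow_add]

theorem geom_surjective (hodd : p ≠ 2) {x : 𝕜} (hx : (p : 𝕜) ∣ x - 1) (y : 𝕜) :
    ∃ d : ℕ, ∑ i ∈ range d, x ^ i = y := by
  haveI : NeZero (p ^ n) := ⟨pow_ne_zero n hp.out.ne_zero⟩
  have hux : IsUnit x := by
    obtain ⟨z, hz⟩ := hx
    rw [eq_add_of_sub_eq hz, add_comm]
    exact (Commute.isNilpotent_mul_right (Commute.all _ _) nilp).isUnit_one_add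
  have key : ∀ a b : ℕ, a ≤ b → b < p ^ n → ∑ i ∈ range a, x ^ i = ∑ i ∈ range b, x ^ i → a = b := by
    intro a b hab hb h
    obtain ⟨c, rfl⟩ := Nat.exists_eq_add_of_le hab
    rw [geom_add, left_eq_add, (hux.pow a).mul_right_eq_zero, geom_eq_zero_iff hodd hx] at h
    have := Nat.eq_zero_of_dvd_of_lt h (by omega)
    omega
  have hinj : Function.Injective (fun a : Fin (p ^ n) => ∑ i ∈ range (a : ℕ), x ^ i) := fun a b h => by
    rcases le_total (a : ℕ) b with hle | hle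
    · exact Fin.ext (key _ _ hle b.2 h)
    · exact Fin.ext (key _ _ hle a.2 h.symm).symm
  obtain ⟨a, ha⟩ := ((Fintype.bijective_iff_injective_and_card _).mpr ⟨hinj, by simp⟩).2 y
  exact ⟨a, ha⟩

/-! ### the plane -/

/-- The alternating form. -/
def det (v w : 𝕜 × 𝕜) : 𝕜 := v.1 * w.2 - v.2 * w.1

/-- Orthogonal complement. -/
def orth (W : AddSubgroup (𝕜 × 𝕜)) : AddSubgroup (𝕜 × 𝕜) where
  carrier := {x | ∀ w ∈ W, det w x = 0}
  zero_mem' := fun w _ => by simp [det]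
  add_mem' := fun {a b} ha hb w hw => by
    have h1 := ha w hw; have h2 := hb w hw
    simp only [det, Prod.fst_add, Prod.snd_add] at *
    linear_combination h1 + h2
  neg_mem' := fun {a} ha w hw => by
    have h1 := ha w hw
    simp only [det, Prod.fst_neg, Prod.snd_neg] at *
    linear_combination -h1

theorem smul_mem (W : AddSubgroup (𝕜 × 𝕜)) (c : 𝕜) {v : 𝕜 × 𝕜} (hv : v ∈ W) : c • v ∈ W := by
  haveI : NeZero (p ^ n) := ⟨pow_ne_zero n hp.out.ne_zero⟩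
  rw [← ZMod.natCast_zmod_val c, Nat.cast_smul_eq_nsmul]
  exact W.nsmul_mem hv _

theorem exists_unit_or_dvd (v : 𝕜 × 𝕜) : (∃ f : 𝕜 × 𝕜, det v f = 1) ∨ ((p : 𝕜) ∣ v.1 ∧ (p : 𝕜) ∣ v.2) := by
  rcases isUnit_or_dvd v.1 with h1 | h1
  · obtain ⟨u, hu⟩ := h1
    exact Or.inl ⟨(0, ((u⁻¹ : 𝕜ˣ) : 𝕜)), by simp [det, ← hu]⟩
  rcases isUnit_or_dvd v.2 with h2 | h2
  · obtain ⟨u, hu⟩ := h2
    exact Or.inl ⟨(-((u⁻¹ : 𝕜ˣ) : 𝕜), 0), by simp [det, ← hu]⟩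
  exact Or.inr ⟨h1, h2⟩

omit hp in
theorem expand {e f : 𝕜 × 𝕜} (hef : det e f = 1) (x : 𝕜 × 𝕜) : x = det x f • e + det e x • f := by
  simp only [det] at hef
  refine Prod.ext ?_ ?_ <;> simp only [det, Prod.fst_add, Prod.snd_add, Prod.smul_fst, Prod.smul_snd, smul_eq_mul]
  · linear_combination (-x.1) * hef
  · linear_combination (-x.2) * hef

omit hp in
theorem det_expand {e f : 𝕜 × 𝕜} (hef : det e f = 1) (x y : 𝕜 × 𝕜) :
    det x y = det x f * det e y - det e x * det y f := by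
  simp only [det] at *
  linear_combination (x.2 * y.1 - x.1 * y.2) * hef

omit hp in
theorem coords {e f : 𝕜 × 𝕜} (hef : det e f = 1) (c d : 𝕜) :
    det (c • e + d • f) f = c ∧ det e (c • e + d • f) = d := by
  simp only [det, Prod.fst_add, Prod.snd_add, Prod.smul_fst, Prod.smul_snd, smul_eq_mul] at *
  exact ⟨by linear_combination c * hef, by linear_combination d * hef⟩

theorem exists_form (W : AddSubgroup (𝕜 × 𝕜)) : ∃ (e f : 𝕜 × 𝕜) (α β : ℕ), det e f = 1 ∧ α ≤ n ∧ β ≤ n ∧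
    ∀ x, x ∈ W ↔ (p : 𝕜) ^ α ∣ det x f ∧ (p : 𝕜) ^ β ∣ det e x := by
  classical
  by_cases hW : ∀ w ∈ W, w = 0
  · refine ⟨(1, 0), (0, 1), n, n, by simp [det], le_rfl, le_rfl, fun x => ?_⟩
    rw [pow_eq_zero_iff.mpr le_rfl, zero_dvd_iff, zero_dvd_iff]
    simp only [det]
    refine ⟨fun h => by simp [hW x h], fun h => ?_⟩
    have : x = 0 := Prod.ext (by simpa using h.1) (by simpa using h.2)
    exact this ▸ W.zero_mem
  push Not at hW
  obtain ⟨w0, hw0, hne⟩ := hW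
  have hex : ∃ α, ∃ w ∈ W, ¬ ((p : 𝕜) ^ (α + 1) ∣ w.1 ∧ (p : 𝕜) ^ (α + 1) ∣ w.2) := by
    refine ⟨n, w0, hw0, fun h => hne ?_⟩
    rw [pow_eq_zero_iff.mpr (by omega : n ≤ n + 1), zero_dvd_iff, zero_dvd_iff] at h
    exact Prod.ext h.1 h.2
  set α := Nat.find hex with hα
  obtain ⟨w, hw, hwn⟩ := Nat.find_spec hex
  have hall : ∀ x ∈ W, (p : 𝕜) ^ α ∣ x.1 ∧ (p : 𝕜) ^ α ∣ x.2 := by
    intro x hx
    rcases Nat.eq_zero_or_pos α with h0 | hpos
    · simp [h0]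
    by_contra hc
    exact Nat.find_min hex (Nat.sub_lt hpos one_pos) ⟨x, hx, by rwa [Nat.sub_add_cancel (show 1 ≤ Nat.find hex from hpos)]⟩
  obtain ⟨⟨a1, h1⟩, ⟨a2, h2⟩⟩ := hall w hw
  rcases exists_unit_or_dvd ((a1, a2) : 𝕜 × 𝕜) with ⟨f, hf⟩ | ⟨⟨b1, hb1⟩, ⟨b2, hb2⟩⟩
  swap
  · refine absurd ⟨⟨b1, ?_⟩, ⟨b2, ?_⟩⟩ hwn
    · rw [h1, show a1 = (p : 𝕜) * b1 from hb1, pow_succ, mul_assoc]
    · rw [h2, show a2 = (p : 𝕜) * b2 from hb2, pow_succ, mul_assoc]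
  have hαn : α ≤ n := by
    by_contra hc
    rw [pow_eq_zero_iff.mpr (by omega : n ≤ α), zero_mul] at h1 h2
    exact hwn ⟨by rw [h1]; exact dvd_zero _, by rw [h2]; exact dvd_zero _⟩
  set e : 𝕜 × 𝕜 := (a1, a2)
  have hwe : w = (p : 𝕜) ^ α • e := Prod.ext (by simpa [e] using h1) (by simpa [e] using h2)
  -- the second coordinate
  have hex2 : ∃ β, (p : 𝕜) ^ β • f ∈ W := ⟨n, by rw [pow_eq_zero_iff.mpr le_rfl, zero_smul]; exact W.zero_mem⟩
  have hβn : Nat.find hex2 ≤ n := Nat.find_min' hex2 (by rw [pow_eq_zero_iff.mpr le_rfl, zero_smul]; exact W.zero_mem)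
  have he1 : ∀ c : 𝕜, (p : 𝕜) ^ α ∣ c → c • e ∈ W := by
    rintro c ⟨d, rfl⟩
    rw [mul_comm, mul_smul, ← hwe]
    exact smul_mem W d hw
  refine ⟨e, f, α, Nat.find hex2, hf, hαn, hβn, fun x => ⟨fun hx => ?_, fun hx => ?_⟩⟩
  · have hc1 : (p : 𝕜) ^ α ∣ det x f := by
      obtain ⟨⟨u, hu⟩, ⟨v, hv⟩⟩ := hall x hx
      exact ⟨u * f.2 - v * f.1, by simp only [det, hu, hv]; ring⟩
    refine ⟨hc1, ?_⟩
    have h : det e x • f ∈ W := by
      rw [show det e x • f = x - det x f • e from eq_sub_of_add_eq' (expand hf x).symm]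
      exact W.sub_mem hx (he1 _ hc1)
    obtain ⟨γ, -, u, hu, hue⟩ := exists_unit_mul_pow (det e x)
    rw [hue] at h ⊢
    refine dvd_mul_of_dvd_right (pow_dvd_pow _ (Nat.find_min' hex2 ?_)) _
    obtain ⟨u', rfl⟩ := hu
    have := smul_mem W ((u'⁻¹ : 𝕜ˣ) : 𝕜) h
    rwa [smul_smul, Units.inv_mul_cancel_left] at this
  · rw [expand hf x]
    obtain ⟨d, hd⟩ := hx.2
    refine W.add_mem (he1 _ hx.1) ?_
    rw [hd, mul_comm, mul_smul]
    exact smul_mem W d (Nat.find_spec hex2)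

theorem mem_orth_form {W : AddSubgroup (𝕜 × 𝕜)} {e f : 𝕜 × 𝕜} {α β : ℕ} (hef : det e f = 1)
    (hW : ∀ x, x ∈ W ↔ (p : 𝕜) ^ α ∣ det x f ∧ (p : 𝕜) ^ β ∣ det e x) (x : 𝕜 × 𝕜) :
    x ∈ orth W ↔ (p : 𝕜) ^ (n - β) ∣ det x f ∧ (p : 𝕜) ^ (n - α) ∣ det e x := by
  constructor
  · intro h
    constructor
    · have h1 := h ((0 : 𝕜) • e + (p : 𝕜) ^ β • f) ((hW _).mpr ⟨by rw [(coords hef _ _).1]; exact dvd_zero _,
        by rw [(coords hef _ _).2]⟩)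
      rw [det_expand hef, (coords hef _ _).1, (coords hef _ _).2, zero_mul, zero_sub, neg_eq_zero] at h1
      exact (pow_mul_eq_zero _).mp h1
    · have h1 := h ((p : 𝕜) ^ α • e + (0 : 𝕜) • f) ((hW _).mpr ⟨by rw [(coords hef _ _).1],
        by rw [(coords hef _ _).2]; exact dvd_zero _⟩)
      rw [det_expand hef, (coords hef _ _).1, (coords hef _ _).2, zero_mul, sub_zero] at h1
      exact (pow_mul_eq_zero _).mp h1
  · rintro ⟨h1, h2⟩ w hw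
    obtain ⟨⟨u, hu⟩, ⟨v, hv⟩⟩ := (hW w).mp hw
    have e1 := (pow_mul_eq_zero (s := β) _).mpr h1
    have e2 := (pow_mul_eq_zero (s := α) _).mpr h2
    rw [det_expand hef, hu, hv]
    linear_combination u * e2 - v * e1

theorem card_form {W : AddSubgroup (𝕜 × 𝕜)} {e f : 𝕜 × 𝕜} {α β : ℕ} (hef : det e f = 1) (hα : α ≤ n) (hβ : β ≤ n)
    (hW : ∀ x, x ∈ W ↔ (p : 𝕜) ^ α ∣ det x f ∧ (p : 𝕜) ^ β ∣ det e x) :
    Nat.card W = p ^ (n - α) * p ^ (n - β) := by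
  rw [← card_dvd (p := p) α hα, ← card_dvd (p := p) β hβ, ← Nat.card_prod]
  exact Nat.card_congr
    { toFun := fun x => (⟨det (x : 𝕜 × 𝕜) f, ((hW x).mp x.2).1⟩, ⟨det e (x : 𝕜 × 𝕜), ((hW x).mp x.2).2⟩)
      invFun := fun c => ⟨(c.1 : 𝕜) • e + (c.2 : 𝕜) • f, (hW _).mpr ⟨by rw [(coords hef _ _).1]; exact c.1.2,
        by rw [(coords hef _ _).2]; exact c.2.2⟩⟩
      left_inv := fun x => Subtype.ext (expand hef (x : 𝕜 × 𝕜)).symm
      right_inv := fun c => Prod.ext (Subtype.ext (coords hef _ _).1) (Subtype.ext (coords hef _ _).2) }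

theorem card_mul_card_orth (W : AddSubgroup (𝕜 × 𝕜)) : Nat.card W * Nat.card (orth W) = p ^ n * p ^ n := by
  obtain ⟨e, f, α, β, hef, hα, hβ, hW⟩ := exists_form W
  rw [card_form hef hα hβ hW, card_form hef (Nat.sub_le _ _) (Nat.sub_le _ _) (mem_orth_form hef hW),
    ← pow_add, ← pow_add, ← pow_add, ← pow_add]
  congr 1
  omega

theorem orth_total (W : AddSubgroup (𝕜 × 𝕜)) : W ≤ orth W ∨ orth W ≤ W := by
  obtain ⟨e, f, α, β, hef, hα, hβ, hW⟩ := exists_form W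
  by_cases h : n ≤ α + β
  · refine Or.inl fun x hx => (mem_orth_form hef hW x).mpr ⟨?_, ?_⟩
    · exact (pow_dvd_pow _ (by omega)).trans ((hW x).mp hx).1
    · exact (pow_dvd_pow _ (by omega)).trans ((hW x).mp hx).2
  · refine Or.inr fun x hx => (hW x).mpr ⟨?_, ?_⟩
    · exact (pow_dvd_pow _ (by omega)).trans ((mem_orth_form hef hW x).mp hx).1
    · exact (pow_dvd_pow _ (by omega)).trans ((mem_orth_form hef hW x).mp hx).2

theorem orth_orth (W : AddSubgroup (𝕜 × 𝕜)) : orth (orth W) = W := by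
  haveI : NeZero (p ^ n) := ⟨pow_ne_zero n hp.out.ne_zero⟩
  have hle : W ≤ orth (orth W) := fun x hx w hw => by
    have h := hw x hx
    simp only [det] at *
    linear_combination -h
  refine (AddSubgroup.eq_of_le_of_card_ge hle ?_).symm
  have h1 := card_mul_card_orth W
  have h2 := card_mul_card_orth (orth W)
  rw [← h1, mul_comm (Nat.card W)] at h2
  exact (Nat.eq_of_mul_eq_mul_left Nat.card_pos h2).le

theorem le_orth_iff (W : AddSubgroup (𝕜 × 𝕜)) : W ≤ orth W ↔ Nat.card W ≤ p ^ n := by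
  haveI : NeZero (p ^ n) := ⟨pow_ne_zero n hp.out.ne_zero⟩
  have h1 := card_mul_card_orth W
  constructor
  · intro h
    by_contra hc
    rw [not_le] at hc
    have h2 : Nat.card W ≤ Nat.card (orth W) := AddSubgroup.card_le_of_le h
    exact absurd h1 (Nat.mul_lt_mul'' hc (hc.trans_le h2)).ne'
  · intro h
    rcases orth_total W with h' | h'
    · exact h'
    have h2 : Nat.card (orth W) ≤ Nat.card W := AddSubgroup.card_le_of_le h'
    refine (AddSubgroup.eq_of_le_of_card_ge h' ?_).ge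
    by_contra hc
    rw [not_le] at hc
    exact absurd h1 (Nat.mul_lt_mul_of_le_of_lt h (hc.trans_le h) (pow_pos hp.out.pos n)).ne

end Cfsg.Agent.GenA.Metacyclic
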