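import Mathlib
import Cfsg.Prelude.Def_OddOrderLocal
import Cfsg.Agent.GenA.Metacyclic.Pairing

/-!
Metacyclic `p`-groups for odd `p`: generators, coordinates modulo the centre, a factorisation into
two cyclic subgroups.
-/

set_option autoImplicit false

namespace Cfsg.Agent.GenA.Metacyclic

open Finset
open scoped commutatorElement

/-- Coordinates of a metacyclic `p`-group modulo its centre. -/
structure Coord (G : Type*) [Group G] (p n : ℕ) where
  π : G → ZMod (p ^ n) × ZMod (p ^ n)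
  s : ZMod (p ^ n)
  dvd_s : (p : ZMod (p ^ n)) ∣ s
  odd : p ≠ 2
  surj : Function.Surjective π
  map_mul : ∀ g h, π (g * h) = π g + (1 + s * (π g).2) • π h
  commute_iff : ∀ g h, g * h = h * g ↔ det (π g) (π h) = 0
  center_le : Subgroup.center G ≤ Subgroup.closure {x : G | ∃ y : G, y ^ p ^ n = x}
  card_commutator : Nat.card (commutator G) = p ^ n

variable {G : Type*} [Group G] [Finite G] {p : ℕ} [Fact p.Prime]

/-- generators -/
structure Gens (G : Type*) [Group G] (p : ℕ) where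
  a : G
  b : G
  d : ℕ
  m : ℕ
  e : ℕ
  c0 : ℕ
  dvd_d : p ∣ d
  order_a : orderOf a = p ^ m
  conj : b * a * b⁻¹ = a ^ (d + 1)
  pow_b : b ^ p ^ e = a ^ c0
  card_eq : Nat.card G = p ^ (m + e)
  exists_eq : ∀ g : G, ∃ i j : ℕ, g = a ^ i * b ^ j

theorem exists_gens (hG : IsPGroup p G) (hmc : Cfsg.IsMetacyclic G) : Nonempty (Gens G p) := by
  obtain ⟨N, hN, hNc, hQc⟩ := hmc
  haveI := hN
  obtain ⟨a, rfl⟩ := N.isCyclic_iff_exists_zpowers_eq_top.mp hNc
  obtain ⟨u, hu⟩ := hQc.exists_generator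
  obtain ⟨b, rfl⟩ := QuotientGroup.mk'_surjective (Subgroup.zpowers a) u
  obtain ⟨m, hm⟩ := IsPGroup.iff_card.mp (hG.to_subgroup (Subgroup.zpowers a))
  obtain ⟨e, he⟩ := IsPGroup.iff_card.mp (hG.to_quotient (Subgroup.zpowers a))
  rw [Nat.card_zpowers] at hm
  have hord : orderOf (QuotientGroup.mk' (Subgroup.zpowers a) b) = p ^ e := by
    rw [orderOf_eq_card_of_forall_mem_zpowers hu, he]
  have hb : b ^ p ^ e ∈ Subgroup.zpowers a := (QuotientGroup.eq_one_iff _).mp (by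
    show QuotientGroup.mk' (Subgroup.zpowers a) (b ^ p ^ e) = 1
    rw [map_pow, ← hord, pow_orderOf_eq_one])
  obtain ⟨c0, hc0 : a ^ c0 = b ^ p ^ e⟩ := mem_powers_iff_mem_zpowers.mpr hb
  obtain ⟨r, hr : a ^ r = b * a * b⁻¹⟩ :=
    mem_powers_iff_mem_zpowers.mpr (hN.conj_mem a (Subgroup.mem_zpowers a) b)
  have hall : ∀ g : G, ∃ i j : ℕ, g = a ^ i * b ^ j := by
    intro g
    obtain ⟨j, hj : (QuotientGroup.mk' (Subgroup.zpowers a) b) ^ j = QuotientGroup.mk' (Subgroup.zpowers a) g⟩ :=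
      mem_powers_iff_mem_zpowers.mpr (hu (QuotientGroup.mk' (Subgroup.zpowers a) g))
    have h1 : g * (b ^ j)⁻¹ ∈ Subgroup.zpowers a := (QuotientGroup.eq_one_iff _).mp (by
      show QuotientGroup.mk' (Subgroup.zpowers a) (g * (b ^ j)⁻¹) = 1
      rw [_root_.map_mul, map_inv, map_pow, hj, mul_inv_cancel])
    obtain ⟨i, hi : a ^ i = g * (b ^ j)⁻¹⟩ := mem_powers_iff_mem_zpowers.mpr h1
    exact ⟨i, j, by rw [hi, inv_mul_cancel_right]⟩
  have hcard : Nat.card G = p ^ (m + e) := by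
    rw [Subgroup.card_eq_card_quotient_mul_card_subgroup (Subgroup.zpowers a), Nat.card_zpowers, hm, he, pow_add, mul_comm]
  rcases Nat.eq_zero_or_pos m with rfl | hmpos
  · have ha : a = 1 := orderOf_eq_one_iff.mp (by simpa using hm)
    exact ⟨⟨a, b, 0, 0, e, c0, dvd_zero p, hm, by simp [ha], hc0.symm, hcard, hall⟩⟩
  have hconjn : ∀ t : ℕ, b ^ t * a * (b ^ t)⁻¹ = a ^ r ^ t := by
    intro t
    induction t with
    | zero => simp
    | succ t ih =>
      calc b ^ (t + 1) * a * (b ^ (t + 1))⁻¹ = b * (b ^ t * a * (b ^ t)⁻¹) * b⁻¹ := by rw [pow_succ']; group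
        _ = a ^ r ^ (t + 1) := by rw [ih, ← conj_pow, ← hr, ← pow_mul, pow_succ']
  have h1 := hconjn (p ^ e)
  have hcomm : Commute (a ^ c0) a := (Commute.refl a).pow_left c0
  rw [← hc0, hcomm.eq, mul_inv_cancel_right] at h1
  have hr1 : r ^ p ^ e ≡ 1 [MOD p ^ m] := hm ▸ pow_eq_pow_iff_modEq.mp (h1.symm.trans (pow_one a).symm)
  have hr2 : (r : ZMod p) = 1 := by
    have h2 := (ZMod.natCast_eq_natCast_iff _ _ p).mpr (hr1.of_dvd (dvd_pow_self p hmpos.ne'))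
    rwa [Nat.cast_pow, ZMod.pow_card_pow, Nat.cast_one] at h2
  obtain ⟨d, rfl⟩ : ∃ d, r = d + 1 := ⟨r - 1, by
    have : r ≠ 0 := fun h => by simp [h] at hr2
    omega⟩
  refine ⟨⟨a, b, d, m, e, c0, ?_, hm, hr.symm, hc0.symm, hcard, hall⟩⟩
  rwa [Nat.cast_add, Nat.cast_one, add_eq_right, ZMod.natCast_eq_zero_iff] at hr2

namespace Gens

variable (D : Gens G p)

include D

omit [Finite G] [Fact p.Prime] in
theorem conj_pow_a (t k : ℕ) : D.b ^ t * D.a ^ k = D.a ^ ((D.d + 1) ^ t * k) * D.b ^ t := by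
  have h : ∀ t : ℕ, D.b ^ t * D.a * (D.b ^ t)⁻¹ = D.a ^ (D.d + 1) ^ t := by
    intro t
    induction t with
    | zero => simp
    | succ t ih =>
      calc D.b ^ (t + 1) * D.a * (D.b ^ (t + 1))⁻¹ = D.b * (D.b ^ t * D.a * (D.b ^ t)⁻¹) * D.b⁻¹ := by
            rw [pow_succ']; group
        _ = D.a ^ (D.d + 1) ^ (t + 1) := by rw [ih, ← conj_pow, D.conj, ← pow_mul, pow_succ']
  rw [pow_mul, ← h t, conj_pow, inv_mul_cancel_right]

omit [Finite G] [Fact p.Prime] in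
theorem mul_eq (i j k l : ℕ) :
    (D.a ^ i * D.b ^ j) * (D.a ^ k * D.b ^ l) = D.a ^ (i + (D.d + 1) ^ j * k) * D.b ^ (j + l) := by
  rw [show D.a ^ i * D.b ^ j * (D.a ^ k * D.b ^ l) = D.a ^ i * (D.b ^ j * D.a ^ k) * D.b ^ l by group,
    D.conj_pow_a, pow_add, pow_add]
  group

omit [Finite G] [Fact p.Prime] in
theorem pow_eq (k t q : ℕ) :
    (D.a ^ k * D.b ^ t) ^ q = D.a ^ (k * ∑ i ∈ range q, ((D.d + 1) ^ t) ^ i) * D.b ^ (t * q) := by
  induction q with
  | zero => simp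
  | succ q ih =>
    rw [pow_succ', ih, D.mul_eq, geom_sum_succ]
    congr 2 <;> ring

omit [Finite G] [Fact p.Prime] in
theorem a_pow_eq_iff (x y : ℕ) : D.a ^ x = D.a ^ y ↔ (x : ZMod (p ^ D.m)) = (y : ZMod (p ^ D.m)) := by
  rw [pow_eq_pow_iff_modEq, D.order_a, ZMod.natCast_eq_natCast_iff]

theorem exists_coord (hodd : p ≠ 2) : ∃ n : ℕ, Nonempty (Coord G p n) := by
  have hdvd : orderOf (D.a ^ D.d) ∣ p ^ D.m := by rw [← D.order_a]; exact orderOf_pow_dvd _
  obtain ⟨n, -, hn⟩ := (Nat.dvd_prime_pow Fact.out).mp hdvd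
  refine ⟨n, ?_⟩
  set c := D.a ^ D.d with hc
  set S : ℕ → ℕ := fun j => ∑ i ∈ range j, (D.d + 1) ^ i with hS
  have hSq : ∀ j, (D.d + 1) ^ j = 1 + D.d * S j := fun j => by rw [← geom_sum_mul_add D.d j, hS]; ring
  have hceq : ∀ x y : ℕ, c ^ x = c ^ y ↔ (x : ZMod (p ^ n)) = (y : ZMod (p ^ n)) := fun x y => by
    rw [pow_eq_pow_iff_modEq, hn, ZMod.natCast_eq_natCast_iff]
  have hka : ∀ i j, (D.a ^ i * D.b ^ j) * D.a = c ^ S j * (D.a * (D.a ^ i * D.b ^ j)) := fun i j => by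
    have h := D.mul_eq i j 1 0
    rw [pow_one, pow_zero, mul_one, mul_one, add_zero] at h
    rw [h, hSq, hc, ← pow_mul, ← mul_assoc, ← mul_assoc, ← pow_succ, ← pow_add]
    congr 2; ring
  have hkb : ∀ i j, D.b * (D.a ^ i * D.b ^ j) = c ^ i * ((D.a ^ i * D.b ^ j) * D.b) := fun i j => by
    have h := D.mul_eq 0 1 i j
    rw [pow_zero, one_mul, pow_one, zero_add] at h
    rw [h, pow_one, hc, ← pow_mul, mul_assoc (D.a ^ i), ← pow_succ, ← mul_assoc, ← pow_add]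
    congr 2 <;> ring
  choose fi fj hf using D.exists_eq
  let π : G → ZMod (p ^ n) × ZMod (p ^ n) := fun g => ((fi g : ZMod (p ^ n)), (S (fj g) : ZMod (p ^ n)))
  have hπ : ∀ i j : ℕ, π (D.a ^ i * D.b ^ j) = ((i : ZMod (p ^ n)), (S j : ZMod (p ^ n))) := by
    intro i j
    set g := D.a ^ i * D.b ^ j with hg
    have ha := hka i j
    have hb := hkb i j
    have ha' := hka (fi g) (fj g)
    have hb' := hkb (fi g) (fj g)
    rw [← hg] at ha hb
    rw [← hf g] at ha' hb'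
    exact Prod.ext ((hceq _ _).mp (mul_right_cancel (hb'.symm.trans hb)))
      ((hceq _ _).mp (mul_right_cancel (ha'.symm.trans ha)))
  have hds : (p : ZMod (p ^ n)) ∣ (D.d : ZMod (p ^ n)) := Nat.cast_dvd_cast D.dvd_d
  have hx : (p : ZMod (p ^ n)) ∣ ((D.d + 1 : ℕ) : ZMod (p ^ n)) - 1 := by simpa using hds
  have hgh : ∀ i j k l, (D.a ^ i * D.b ^ j) * (D.a ^ k * D.b ^ l) = c ^ (S j * k) * (D.a ^ (i + k) * D.b ^ (j + l)) :=
    fun i j k l => by
      rw [D.mul_eq, hSq, hc, ← pow_mul, ← mul_assoc, ← pow_add]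
      congr 2; ring
  refine ⟨{
    π := π
    s := (D.d : ZMod (p ^ n))
    dvd_s := hds
    odd := hodd
    surj := ?_
    map_mul := ?_
    commute_iff := ?_
    center_le := ?_
    card_commutator := ?_ }⟩
  · rintro ⟨x, y⟩
    haveI : NeZero (p ^ n) := ⟨pow_ne_zero n (Fact.out : p.Prime).ne_zero⟩
    obtain ⟨j, hj⟩ := geom_surjective hodd hx y
    refine ⟨D.a ^ x.val * D.b ^ j, ?_⟩
    rw [hπ]
    refine Prod.ext (ZMod.natCast_zmod_val x) ?_
    simp only [hS, Nat.cast_sum, Nat.cast_pow]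
    exact hj
  · intro g h
    have e1 := hπ (fi g + (D.d + 1) ^ fj g * fi h) (fj g + fj h)
    rw [← D.mul_eq, ← hf g, ← hf h] at e1
    rw [e1]
    have h2 : S (fj g + fj h) = S (fj g) + (D.d + 1) ^ fj g * S (fj h) := by simp only [hS, sum_range_add, mul_sum, pow_add]
    rw [h2, hSq]
    refine Prod.ext ?_ ?_ <;> simp [π]
  · intro g h
    rw [hf g, hf h, hgh, hgh, hπ, hπ, add_comm (fi h), add_comm (fj h), mul_left_inj, hceq]
    simp only [det, Nat.cast_mul]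
    constructor
    · intro e1; linear_combination -e1
    · intro e1; linear_combination -e1
  · intro z hz
    have hz' : ∀ y : G, z * y = y * z := fun y => (Subgroup.mem_center_iff.mp hz y).symm
    rw [hf z] at hz' ⊢
    have e1 : c ^ S (fj z) = c ^ 0 := by
      have := hka (fi z) (fj z)
      rw [← hz' D.a] at this
      rw [pow_zero]; exact right_eq_mul.mp this
    have e2 : c ^ fi z = c ^ 0 := by
      have := hkb (fi z) (fj z)
      rw [← hz' D.b] at this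
      rw [pow_zero]; exact right_eq_mul.mp this
    rw [hceq, Nat.cast_zero] at e1 e2
    obtain ⟨i', hi'⟩ := (ZMod.natCast_eq_zero_iff _ _).mp e2
    simp only [hS, Nat.cast_sum, Nat.cast_pow] at e1
    obtain ⟨j', hj'⟩ := (geom_eq_zero_iff hodd hx _).mp e1
    refine Subgroup.mul_mem _ (Subgroup.subset_closure ⟨D.a ^ i', ?_⟩) (Subgroup.subset_closure ⟨D.b ^ j', ?_⟩)
    · rw [hi', ← pow_mul, mul_comm]
    · rw [hj', ← pow_mul, mul_comm]
  · have hcom : commutator G = Subgroup.zpowers c := by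
      refine le_antisymm ?_ (Subgroup.zpowers_le.mpr ?_)
      · rw [commutator_def, Subgroup.commutator_le]
        intro g _ h _
        rw [hf g, hf h, show ∀ x y : G, ⁅x, y⁆ = (x * y) * (y * x)⁻¹ from fun x y => by rw [commutatorElement_def]; group,
          hgh, hgh, add_comm (fi h), add_comm (fj h), mul_inv_rev, ← mul_assoc, mul_inv_cancel_right]
        exact Subgroup.mul_mem _ (Subgroup.npow_mem_zpowers _ _) (Subgroup.inv_mem _ (Subgroup.npow_mem_zpowers _ _))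
      · have h1 : c = ⁅D.b, D.a⁆ := by
          rw [commutatorElement_def, D.conj, pow_succ, mul_inv_cancel_right]
        rw [h1]
        exact Subgroup.commutator_mem_commutator (Subgroup.mem_top _) (Subgroup.mem_top _)
    rw [hcom, Nat.card_zpowers, hn]

theorem exists_split (hodd : p ≠ 2) : ∃ A B : Subgroup G, IsCyclic A ∧ IsCyclic B ∧ A ⊓ B = ⊥ ∧
    Nat.card A * Nat.card B = Nat.card G := by
  have hp : p.Prime := Fact.out
  haveI : NeZero (p ^ D.m) := ⟨pow_ne_zero _ hp.ne_zero⟩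
  suffices h : ∃ x y : G, (∀ g : G, ∃ u ∈ Subgroup.zpowers x, ∃ v ∈ Subgroup.zpowers y, g = u * v) ∧
      orderOf x * orderOf y ≤ Nat.card G by
    obtain ⟨x, y, hsurj, hle⟩ := h
    let f : ↥(Subgroup.zpowers x) × ↥(Subgroup.zpowers y) → G := fun w => (w.1 : G) * w.2
    have hs : Function.Surjective f := fun g => by
      obtain ⟨u, hu, v, hv, rfl⟩ := hsurj g
      exact ⟨(⟨u, hu⟩, ⟨v, hv⟩), rfl⟩
    have hb : Function.Bijective f := (Nat.bijective_iff_surjective_and_card f).mpr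
      ⟨hs, le_antisymm (by rw [Nat.card_prod, Nat.card_zpowers, Nat.card_zpowers]; exact hle) (Nat.card_le_card_of_surjective f hs)⟩
    refine ⟨Subgroup.zpowers x, Subgroup.zpowers y, inferInstance, inferInstance, ?_, ?_⟩
    · rw [eq_bot_iff]
      intro g hg
      have := hb.1 (a₁ := (⟨g, hg.1⟩, 1)) (a₂ := (1, ⟨g, hg.2⟩)) (by simp [f])
      exact congrArg (fun w => ((w.1 : ↥(Subgroup.zpowers x)) : G)) this
    · rw [← Nat.card_prod]; exact Nat.card_eq_of_bijective f hb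
  have hx1 : (p : ZMod (p ^ D.m)) ∣ ((D.d + 1 : ℕ) : ZMod (p ^ D.m)) - 1 := by
    simpa using (Nat.cast_dvd_cast (α := ZMod (p ^ D.m)) D.dvd_d)
  obtain ⟨γ, hγm, w, hw, hc0⟩ := exists_unit_mul_pow (p := p) (n := D.m) (D.c0 : ZMod (p ^ D.m))
  -- the exponent of the new generator
  have hchoose : ∀ (t q δ : ℕ) (v : ZMod (p ^ D.m)), t * q = p ^ D.e → q = p ^ δ →
      (D.c0 : ZMod (p ^ D.m)) = v * (p : ZMod (p ^ D.m)) ^ δ → ∃ k : ℕ, (D.a ^ k * D.b ^ t) ^ q = 1 ∧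
        (IsUnit v → IsUnit (k : ZMod (p ^ D.m))) := by
    intro t q δ v htq hq hv
    obtain ⟨U, hU, hUe⟩ := geom_pow hodd δ (dvd_pow_sub_one hx1 t)
    refine ⟨(-(v * ((hU.unit⁻¹ : (ZMod (p ^ D.m))ˣ) : ZMod (p ^ D.m)))).val, ?_, fun hvu => ?_⟩
    · rw [D.pow_eq, htq, D.pow_b, ← pow_add, ← pow_zero D.a, D.a_pow_eq_iff, hq]
      push_cast at hUe ⊢
      rw [hUe, ZMod.natCast_zmod_val, hv]
      linear_combination (-v * (p : ZMod (p ^ D.m)) ^ δ) * hU.val_inv_mul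
    · rw [ZMod.natCast_zmod_val]
      exact (hvu.mul (Units.isUnit _)).neg
  rcases le_or_gt D.e γ with hge | hlt
  · -- split
    obtain ⟨k, hk, -⟩ := hchoose 1 (p ^ D.e) D.e (w * (p : ZMod (p ^ D.m)) ^ (γ - D.e)) (one_mul _) rfl
      (by rw [hc0, mul_assoc, ← pow_add, Nat.sub_add_cancel hge])
    rw [pow_one] at hk
    refine ⟨D.a, D.a ^ k * D.b, fun g => ?_, ?_⟩
    · obtain ⟨i, j, rfl⟩ := D.exists_eq g
      refine ⟨D.a ^ i * (D.a ^ (k * ∑ t ∈ range j, ((D.d + 1) ^ 1) ^ t))⁻¹, Subgroup.mul_mem _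
        (Subgroup.npow_mem_zpowers _ _) (Subgroup.inv_mem _ (Subgroup.npow_mem_zpowers _ _)),
        (D.a ^ k * D.b) ^ j, Subgroup.npow_mem_zpowers _ _, ?_⟩
      have := D.pow_eq k 1 j
      rw [pow_one D.b, one_mul] at this
      rw [this]; group
    · rw [D.card_eq, pow_add, D.order_a]
      exact Nat.mul_le_mul_left _ (orderOf_le_of_pow_eq_one (pow_pos hp.pos _) hk)
  · obtain ⟨k, hk, hku⟩ := hchoose (p ^ (D.e - γ)) (p ^ γ) γ w (by rw [← pow_add, Nat.sub_add_cancel hlt.le]) rfl hc0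
    obtain ⟨ku, hku'⟩ := hku hw
    refine ⟨D.a ^ k * D.b ^ p ^ (D.e - γ), D.b, fun g => ?_, ?_⟩
    · obtain ⟨i, j, rfl⟩ := D.exists_eq g
      obtain ⟨q, hq⟩ := geom_surjective hodd (dvd_pow_sub_one hx1 (p ^ (D.e - γ)))
        (((ku⁻¹ : (ZMod (p ^ D.m))ˣ) : ZMod (p ^ D.m)) * (i : ZMod (p ^ D.m)))
      have h1 : (D.a ^ k * D.b ^ p ^ (D.e - γ)) ^ q = D.a ^ i * D.b ^ (p ^ (D.e - γ) * q) := by
        rw [D.pow_eq, mul_left_inj, D.a_pow_eq_iff]
        push_cast at hq ⊢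
        rw [hq, ← hku', Units.mul_inv_cancel_left]
      refine ⟨(D.a ^ k * D.b ^ p ^ (D.e - γ)) ^ q, Subgroup.npow_mem_zpowers _ _,
        (D.b ^ (p ^ (D.e - γ) * q))⁻¹ * D.b ^ j, Subgroup.mul_mem _ (Subgroup.inv_mem _ (Subgroup.npow_mem_zpowers _ _)) (Subgroup.npow_mem_zpowers _ _), ?_⟩
      rw [h1]; group
    · have hb : D.b ^ (p ^ D.e * p ^ (D.m - γ)) = 1 := by
        rw [pow_mul, D.pow_b, ← pow_mul, ← pow_zero D.a, D.a_pow_eq_iff]
        push_cast
        rw [hc0, mul_assoc, ← pow_add, pow_eq_zero_iff.mpr (by omega : D.m ≤ γ + (D.m - γ)), mul_zero]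
      refine (Nat.mul_le_mul (orderOf_le_of_pow_eq_one (pow_pos hp.pos _) hk)
        (orderOf_le_of_pow_eq_one (Nat.mul_pos (pow_pos hp.pos _) (pow_pos hp.pos _)) hb)).trans ?_
      rw [D.card_eq, ← pow_add, ← pow_add, show γ + (D.e + (D.m - γ)) = D.m + D.e by omega]

end Gens

end Cfsg.Agent.GenA.Metacyclic
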