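import Mathlib
import Cfsg.Agent.GenA.Metacyclic.Build
import Cfsg.Agent.Solvable.Basics

/-!
Subgroups of a group with coordinates modulo the centre: the lattice above the centre, centralisers,
orders.
-/

set_option autoImplicit false

namespace Cfsg.Agent.GenA.Metacyclic

open Finset

variable {p n : ℕ} [hp : Fact p.Prime]

/-- multiples of `p ^ s` -/
def box (s : ℕ) : AddSubgroup (ZMod (p ^ n) × ZMod (p ^ n)) where
  carrier := {v | (p : ZMod (p ^ n)) ^ s ∣ v.1 ∧ (p : ZMod (p ^ n)) ^ s ∣ v.2}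
  zero_mem' := ⟨dvd_zero _, dvd_zero _⟩
  add_mem' := fun {a b} ha hb => ⟨dvd_add ha.1 hb.1, dvd_add ha.2 hb.2⟩
  neg_mem' := fun {a} ha => ⟨dvd_neg.mpr ha.1, dvd_neg.mpr ha.2⟩

theorem card_box {s : ℕ} (hs : s ≤ n) :
    Nat.card (box (p := p) (n := n) s) = p ^ (n - s) * p ^ (n - s) := by
  rw [← card_dvd (p := p) (n := n) s hs, ← Nat.card_prod]
  exact Nat.card_congr
    { toFun := fun v => (⟨(v : ZMod (p ^ n) × ZMod (p ^ n)).1, v.2.1⟩, ⟨(v : ZMod (p ^ n) × ZMod (p ^ n)).2, v.2.2⟩)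
      invFun := fun c => ⟨((c.1 : ZMod (p ^ n)), (c.2 : ZMod (p ^ n))), c.1.2, c.2.2⟩
      left_inv := fun _ => rfl
      right_inv := fun _ => rfl }

theorem nsmul_eq_zero_iff {j : ℕ} (hj : j ≤ n) (v : ZMod (p ^ n) × ZMod (p ^ n)) :
    (p ^ j) • v = 0 ↔ v ∈ box (n - j) := by
  rw [← Nat.cast_smul_eq_nsmul (ZMod (p ^ n)), Prod.ext_iff]
  simp only [Prod.smul_fst, Prod.smul_snd, smul_eq_mul, Nat.cast_pow, Prod.fst_zero, Prod.snd_zero, pow_mul_eq_zero]
  rfl

theorem addOrderOf_le_iff {j : ℕ} (hj : j ≤ n) (v : ZMod (p ^ n) × ZMod (p ^ n)) :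
    addOrderOf v ≤ p ^ j ↔ v ∈ box (n - j) := by
  rw [← nsmul_eq_zero_iff hj]
  constructor
  · intro h
    have hd : addOrderOf v ∣ p ^ n := addOrderOf_dvd_of_nsmul_eq_zero
      ((nsmul_eq_zero_iff le_rfl v).mpr (by rw [Nat.sub_self]; exact ⟨by simp, by simp⟩))
    obtain ⟨i, -, hi⟩ := (Nat.dvd_prime_pow hp.out).mp hd
    rw [hi] at h
    exact addOrderOf_dvd_iff_nsmul_eq_zero.mp (hi ▸ pow_dvd_pow p ((Nat.pow_le_pow_iff_right hp.out.one_lt).mp h))
  · exact fun h => addOrderOf_le_of_nsmul_eq_zero (pow_pos hp.out.pos j) h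

namespace Coord

variable {G : Type*} [Group G] [Finite G] (D : Coord G p n)

local notation "V" => ZMod (p ^ n) × ZMod (p ^ n)

include D

theorem π_one : D.π 1 = 0 := by
  have h := D.map_mul 1 1
  rw [one_mul, left_eq_add] at h
  have hu : IsUnit (1 + D.s * (D.π 1).2) := by
    obtain ⟨z, hz⟩ := D.dvd_s
    rw [hz, mul_assoc]
    exact (Commute.isNilpotent_mul_right (Commute.all _ _) nilp).isUnit_one_add
  exact hu.smul_eq_zero.mp h

/-- the multiplier -/
theorem χ_mul (g h : G) :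
    1 + D.s * (D.π (g * h)).2 = (1 + D.s * (D.π g).2) * (1 + D.s * (D.π h).2) := by
  rw [D.map_mul]
  simp only [Prod.snd_add, Prod.smul_snd, smul_eq_mul]
  ring

theorem χ_unit (g : G) : IsUnit (1 + D.s * (D.π g).2) := by
  obtain ⟨z, hz⟩ := D.dvd_s
  rw [hz, mul_assoc]
  exact (Commute.isNilpotent_mul_right (Commute.all _ _) nilp).isUnit_one_add

theorem π_pow (g : G) (t : ℕ) :
    D.π (g ^ t) = (∑ i ∈ range t, (1 + D.s * (D.π g).2) ^ i) • D.π g := by
  induction t with
  | zero => simp [D.π_one]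
  | succ t ih => rw [pow_succ', D.map_mul, ih, geom_sum_succ, add_smul (_ * _), one_smul, mul_smul, add_comm]

theorem dvd_χ (g : G) : (p : ZMod (p ^ n)) ∣ (1 + D.s * (D.π g).2) - 1 := by
  rw [add_sub_cancel_left]; exact D.dvd_s.mul_right _

theorem smul_π_mem (L : Subgroup G) {g : G} (hg : g ∈ L) (c : ZMod (p ^ n)) : ∃ k ∈ L, D.π k = c • D.π g := by
  obtain ⟨t, ht⟩ := geom_surjective D.odd (D.dvd_χ g) c
  exact ⟨g ^ t, L.pow_mem hg t, by rw [D.π_pow, ht]⟩

/-- the image of a subgroup -/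
def img (L : Subgroup G) : AddSubgroup V where
  carrier := D.π '' L
  zero_mem' := ⟨1, L.one_mem, D.π_one⟩
  add_mem' := by
    rintro _ _ ⟨g, hg, rfl⟩ ⟨h, hh, rfl⟩
    obtain ⟨u, hu⟩ := D.χ_unit g
    obtain ⟨k, hk, hkh⟩ := D.smul_π_mem L hh ((u⁻¹ : (ZMod (p ^ n))ˣ) : ZMod (p ^ n))
    exact ⟨g * k, L.mul_mem hg hk, by rw [D.map_mul, hkh, ← hu, smul_smul, Units.mul_inv, one_smul]⟩
  neg_mem' := by
    rintro _ ⟨g, hg, rfl⟩
    obtain ⟨k, hk, hkg⟩ := D.smul_π_mem L hg (-1)
    exact ⟨k, hk, by rw [hkg, neg_one_smul]⟩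

/-- the preimage of a subgroup -/
def pre (W : AddSubgroup V) : Subgroup G where
  carrier := {g | D.π g ∈ W}
  one_mem' := by show D.π 1 ∈ W; rw [D.π_one]; exact W.zero_mem
  mul_mem' := fun {g h} hg hh => by
    show D.π (g * h) ∈ W
    rw [D.map_mul]; exact W.add_mem hg (smul_mem W _ hh)
  inv_mem' := fun {g} hg => by
    show D.π g⁻¹ ∈ W
    have h := D.map_mul g⁻¹ g
    rw [inv_mul_cancel, D.π_one] at h
    rw [eq_neg_of_add_eq_zero_left h.symm]
    exact W.neg_mem (smul_mem W _ hg)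

theorem mem_pre {W : AddSubgroup V} {g : G} : g ∈ D.pre W ↔ D.π g ∈ W := Iff.rfl

theorem π_mem_img {L : Subgroup G} {g : G} (hg : g ∈ L) : D.π g ∈ D.img L := ⟨g, hg, rfl⟩

theorem mem_center_iff' (g : G) : g ∈ Subgroup.center G ↔ D.π g = 0 := by
  rw [Subgroup.mem_center_iff]
  constructor
  · intro h
    obtain ⟨x, hx⟩ := D.surj (1, 0)
    obtain ⟨y, hy⟩ := D.surj (0, 1)
    have h1 := (D.commute_iff _ _).mp (h x)
    have h2 := (D.commute_iff _ _).mp (h y)
    rw [hx] at h1; rw [hy] at h2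
    simp only [det, one_mul, zero_mul, sub_zero, zero_sub, neg_eq_zero] at h1 h2
    exact Prod.ext h2 h1
  · intro h x
    rw [D.commute_iff, h]; simp [det]

theorem π_mul_central (g : G) {z : G} (hz : z ∈ Subgroup.center G) : D.π (g * z) = D.π g := by
  rw [D.map_mul, (D.mem_center_iff' z).mp hz, smul_zero, add_zero]

theorem inv_mul_central {g h : G} (e : D.π g = D.π h) : g⁻¹ * h ∈ Subgroup.center G := by
  have h1 := D.map_mul g (g⁻¹ * h)
  rw [mul_inv_cancel_left, ← e, left_eq_add] at h1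
  exact (D.mem_center_iff' _).mpr ((D.χ_unit g).smul_eq_zero.mp h1)

theorem card_eq_mul (L : Subgroup G) :
    Nat.card L = Nat.card (L ⊓ Subgroup.center G : Subgroup G) * Nat.card (D.img L) := by
  have hsec : ∀ v : D.img L, ∃ g : L, D.π g = v := fun v => by
    obtain ⟨g, hg, hgv⟩ := v.2; exact ⟨⟨g, hg⟩, hgv⟩
  choose σ hσ using hsec
  rw [← Nat.card_prod]
  refine (Nat.card_congr (Equiv.ofBijective
    (fun w : ↥(L ⊓ Subgroup.center G : Subgroup G) × ↥(D.img L) =>
      (⟨(σ w.2 : G) * w.1, L.mul_mem (σ w.2).2 w.1.2.1⟩ : ↥L)) ⟨?_, ?_⟩)).symm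
  · rintro ⟨z, v⟩ ⟨z', v'⟩ e
    have e1 : (σ v : G) * z = (σ v' : G) * z' := congrArg Subtype.val e
    have e2 := congrArg D.π e1
    rw [D.π_mul_central _ z.2.2, D.π_mul_central _ z'.2.2, hσ, hσ] at e2
    obtain rfl : v = v' := Subtype.ext e2
    exact Prod.ext (Subtype.ext (mul_left_cancel e1)) rfl
  · rintro ⟨g, hg⟩
    exact ⟨(⟨(σ ⟨D.π g, D.π_mem_img hg⟩ : G)⁻¹ * g, L.mul_mem (L.inv_mem (σ _).2) hg,
      D.inv_mul_central (hσ ⟨D.π g, D.π_mem_img hg⟩)⟩, ⟨D.π g, D.π_mem_img hg⟩), Subtype.ext (mul_inv_cancel_left _ _)⟩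

theorem img_pre (W : AddSubgroup V) : D.img (D.pre W) = W := by
  refine le_antisymm ?_ fun v hv => ?_
  · rintro _ ⟨g, hg, rfl⟩; exact hg
  · obtain ⟨g, rfl⟩ := D.surj v; exact D.π_mem_img hv

theorem center_le_pre (W : AddSubgroup V) : Subgroup.center G ≤ D.pre W := fun z hz => by
  rw [D.mem_pre, (D.mem_center_iff' z).mp hz]; exact W.zero_mem

theorem card_pre (W : AddSubgroup V) : Nat.card (D.pre W) = Nat.card (Subgroup.center G) * Nat.card W := by
  rw [D.card_eq_mul, D.img_pre, inf_eq_right.mpr (D.center_le_pre W)]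

theorem le_pre_img (L : Subgroup G) : L ≤ D.pre (D.img L) := fun _ hg => D.π_mem_img hg

theorem pre_img {L : Subgroup G} (hL : Subgroup.center G ≤ L) : D.pre (D.img L) = L := by
  refine le_antisymm (fun g hg => ?_) (D.le_pre_img L)
  obtain ⟨h, hh, e⟩ := hg
  have := L.mul_mem hh (hL (D.inv_mul_central e))
  rwa [mul_inv_cancel_left] at this

theorem card_group : Nat.card G = Nat.card (Subgroup.center G) * (p ^ n * p ^ n) := by
  have e : D.pre (⊤ : AddSubgroup V) = ⊤ := eq_top_iff.mpr fun g _ => AddSubgroup.mem_top (D.π g)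
  have h := D.card_pre (⊤ : AddSubgroup V)
  rw [e, Subgroup.card_top, AddSubgroup.card_top] at h
  rw [h, Nat.card_prod, Nat.card_zmod]

theorem index_center : (Subgroup.center G).index = p ^ n * p ^ n := by
  have h := Subgroup.card_mul_index (Subgroup.center G)
  rw [D.card_group] at h
  exact Nat.eq_of_mul_eq_mul_left Nat.card_pos h

theorem index_commutator : (commutator G).index = Nat.card (Subgroup.center G) * p ^ n := by
  have h := Subgroup.card_mul_index (commutator G)
  rw [D.card_group, D.card_commutator] at h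
  exact Nat.eq_of_mul_eq_mul_left (pow_pos hp.out.pos n) (h.trans (by ring))

theorem centralizer_eq (L : Subgroup G) : Subgroup.centralizer (L : Set G) = D.pre (orth (D.img L)) := by
  ext g
  rw [Subgroup.mem_centralizer_iff, D.mem_pre]
  constructor
  · rintro h _ ⟨x, hx, rfl⟩
    exact (D.commute_iff x g).mp (h x hx)
  · intro h x hx
    exact (D.commute_iff x g).mpr (h _ (D.π_mem_img hx))

theorem isMulCommutative_iff (L : Subgroup G) : IsMulCommutative L ↔ D.img L ≤ orth (D.img L) := by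
  constructor
  · rintro ⟨⟨h⟩⟩ _ ⟨g, hg, rfl⟩ _ ⟨x, hx, rfl⟩
    exact (D.commute_iff x g).mp (congrArg Subtype.val (h ⟨x, hx⟩ ⟨g, hg⟩))
  · intro h
    exact ⟨⟨fun x g => Subtype.ext ((D.commute_iff x.1 g.1).mpr (h (D.π_mem_img g.2) _ (D.π_mem_img x.2)))⟩⟩

theorem card_mul_centralizer (L : Subgroup G) :
    Nat.card L * Nat.card (Subgroup.centralizer (L : Set G)) =
      Nat.card (L ⊓ Subgroup.center G : Subgroup G) * Nat.card G := by
  rw [D.centralizer_eq, D.card_pre, D.card_group, ← card_mul_card_orth (D.img L), D.card_eq_mul L]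
  ring

theorem index_centralizer (g : G) : (Subgroup.centralizer ({g} : Set G)).index = addOrderOf (D.π g) := by
  have himg : D.img (Subgroup.zpowers g) = AddSubgroup.zmultiples (D.π g) := by
    refine le_antisymm ?_ (AddSubgroup.zmultiples_le.mpr (D.π_mem_img (Subgroup.mem_zpowers g)))
    rintro _ ⟨x, hx, rfl⟩
    obtain ⟨t, rfl⟩ := mem_powers_iff_mem_zpowers.mpr hx
    show D.π (g ^ t) ∈ _
    rw [D.π_pow]
    exact smul_mem _ _ (AddSubgroup.mem_zmultiples _)
  have hC : Subgroup.centralizer ({g} : Set G) = Subgroup.centralizer (Subgroup.zpowers g : Set G) := by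
    rw [Subgroup.zpowers_eq_closure, Subgroup.centralizer_closure]
  have h := Subgroup.card_mul_index (Subgroup.centralizer ({g} : Set G))
  rw [hC, D.centralizer_eq, himg, D.card_pre, D.card_group, ← card_mul_card_orth (AddSubgroup.zmultiples (D.π g)),
    Nat.card_zmultiples, mul_comm (addOrderOf _), ← mul_assoc] at h
  rw [hC, D.centralizer_eq, himg]
  exact Nat.eq_of_mul_eq_mul_left (Nat.mul_pos Nat.card_pos Nat.card_pos) h

theorem closure_pow_eq {s : ℕ} (hs : s ≤ n) :
    Subgroup.closure {x : G | ∃ y : G, y ^ p ^ s = x} = D.pre (box s) := by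
  apply le_antisymm
  · rw [Subgroup.closure_le]
    rintro _ ⟨y, rfl⟩
    obtain ⟨u, -, hu⟩ := geom_pow D.odd s (D.dvd_χ y)
    show D.π (y ^ p ^ s) ∈ box s
    rw [D.π_pow, hu, mul_smul]
    exact ⟨⟨_, rfl⟩, ⟨_, rfl⟩⟩
  · set U := Subgroup.closure {x : G | ∃ y : G, y ^ p ^ s = x}
    have hZ : Subgroup.center G ≤ U := D.center_le.trans (Subgroup.closure_mono (by
      rintro _ ⟨y, rfl⟩
      exact ⟨y ^ p ^ (n - s), by rw [← pow_mul, ← pow_add, Nat.sub_add_cancel hs]⟩))
    rintro g ⟨⟨a, ha⟩, ⟨b, hb⟩⟩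
    rw [← D.pre_img hZ]
    obtain ⟨y, hy⟩ := D.surj (a, b)
    obtain ⟨u, ⟨u', rfl⟩, hu⟩ := geom_pow D.odd s (D.dvd_χ y)
    have hmem : D.π (y ^ p ^ s) ∈ D.img U := D.π_mem_img (Subgroup.subset_closure ⟨y, rfl⟩)
    have := smul_mem (D.img U) ((u'⁻¹ : (ZMod (p ^ n))ˣ) : ZMod (p ^ n)) hmem
    rw [D.π_pow, hu, smul_smul, mul_comm ((p : ZMod (p ^ n)) ^ s), Units.inv_mul_cancel_left, hy] at this
    show D.π g ∈ D.img U
    rwa [show D.π g = (p : ZMod (p ^ n)) ^ s • ((a, b) : V) from Prod.ext ha hb]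

theorem center_le_of_not_commutative (hG : IsPGroup p G) {L : Subgroup G} (hL : ¬ IsMulCommutative L) :
    Subgroup.center G ≤ L := by
  have hbig : ¬ Nat.card (D.img L) ≤ p ^ n := fun h => hL ((D.isMulCommutative_iff L).mpr ((le_orth_iff _).mpr h))
  have hn : 1 ≤ n := by
    by_contra hn
    obtain rfl : n = 0 := by omega
    exact hbig (by simpa using Nat.card_le_card_of_injective (fun x : D.img L => (x : ZMod (p ^ 0) × ZMod (p ^ 0))) Subtype.val_injective)
  set M := D.pre (D.img L) with hM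
  have hbox : box (n - 1) ≤ D.img L := by
    obtain ⟨e, f, α, β, hef, hα, hβ, hW⟩ := exists_form (D.img L)
    have hαβ : ¬ n ≤ α + β := fun h => hbig (by
      rw [card_form hef hα hβ hW, ← pow_add]; exact Nat.pow_le_pow_right hp.out.pos (by omega))
    rintro v ⟨⟨a, ha⟩, ⟨b, hb⟩⟩
    refine (hW v).mpr ⟨(pow_dvd_pow _ (by omega : α ≤ n - 1)).trans ⟨det (a, b) f, ?_⟩,
      (pow_dvd_pow _ (by omega : β ≤ n - 1)).trans ⟨det e (a, b), ?_⟩⟩ <;> simp only [det, ha, hb] <;> ring
  have hsup : L.subgroupOf M ⊔ frattini M = ⊤ := by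
    rw [eq_top_iff]
    rintro ⟨x, hx⟩ -
    obtain ⟨l, hl, e⟩ := (show D.π x ∈ D.img L from hx)
    have hz := D.inv_mul_central e
    have h1 : (⟨l⁻¹ * x, D.center_le_pre _ hz⟩ : M) ∈ frattini M := by
      have h2 : Subgroup.center G ≤ (frattini M).map M.subtype := by
        refine D.center_le.trans ((Subgroup.closure_le _).mpr ?_)
        rintro _ ⟨y, rfl⟩
        have hy : y ^ p ^ (n - 1) ∈ M := by
          refine hbox ((?_ : D.π (y ^ p ^ (n - 1)) ∈ box (n - 1)))
          rw [← D.mem_pre, ← D.closure_pow_eq (by omega : n - 1 ≤ n)]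
          exact Subgroup.subset_closure ⟨y, rfl⟩
        refine ⟨⟨_, hy⟩ ^ p, Cfsg.Agent.Solvable.Basics.pow_mem_frattini (hG.to_subgroup M) _, ?_⟩
        show (y ^ p ^ (n - 1)) ^ p = y ^ p ^ n
        rw [← pow_mul, ← pow_succ, Nat.sub_add_cancel hn]
      obtain ⟨w, hw, hwx⟩ := h2 hz
      rwa [show (⟨l⁻¹ * x, D.center_le_pre _ hz⟩ : M) = w from Subtype.ext hwx.symm]
    have h3 : (⟨x, hx⟩ : M) = ⟨l, D.le_pre_img L hl⟩ * ⟨l⁻¹ * x, D.center_le_pre _ hz⟩ :=
      Subtype.ext (mul_inv_cancel_left l x).symm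
    rw [h3]
    exact Subgroup.mul_mem_sup hl h1
  have htop : L.subgroupOf M = ⊤ := frattini_nongenerating hsup
  exact (D.center_le_pre _).trans (Subgroup.subgroupOf_eq_top.mp htop)

theorem frattini_eq (hG : IsPGroup p G) (hn : 1 ≤ n) : frattini G = D.pre (box 1) := by
  apply le_antisymm
  · have key : ∀ W : AddSubgroup V, Nat.card W = p ^ (n - 1) * p ^ n → frattini G ≤ D.pre W := by
      intro W hW
      refine frattini_le_coatom ?_
      have h := Subgroup.card_mul_index (D.pre W)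
      rw [D.card_pre, D.card_group, hW] at h
      have : (D.pre W).index = p := by
        refine Nat.eq_of_mul_eq_mul_left (show 0 < Nat.card (Subgroup.center G) * (p ^ (n - 1) * p ^ n) from
          Nat.mul_pos Nat.card_pos (Nat.mul_pos (pow_pos hp.out.pos _) (pow_pos hp.out.pos _))) (h.trans ?_)
        rw [mul_assoc, mul_assoc, mul_comm (p ^ n) p, ← mul_assoc (p ^ (n - 1)), ← pow_succ, Nat.sub_add_cancel hn]
      refine ⟨fun e => hp.out.ne_one (by rw [← this, e, Subgroup.index_top]), fun K hK => ?_⟩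
      have h2 := Subgroup.relIndex_mul_index hK.le
      rw [this] at h2
      rcases (Nat.dvd_prime hp.out).mp (h2 ▸ dvd_mul_left K.index _) with h3 | h3
      · exact Subgroup.index_eq_one.mp h3
      · rw [h3] at h2
        have h4 := Nat.eq_of_mul_eq_mul_right hp.out.pos (h2.trans (one_mul p).symm)
        exact absurd (Subgroup.relIndex_eq_one.mp h4) (not_le_of_gt hK)
    let W1 : AddSubgroup V :=
      { carrier := {v | (p : ZMod (p ^ n)) ∣ v.1}
        zero_mem' := dvd_zero _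
        add_mem' := fun {a b} ha hb => dvd_add ha hb
        neg_mem' := fun {a} ha => dvd_neg.mpr ha }
    let W2 : AddSubgroup V :=
      { carrier := {v | (p : ZMod (p ^ n)) ∣ v.2}
        zero_mem' := dvd_zero _
        add_mem' := fun {a b} ha hb => dvd_add ha hb
        neg_mem' := fun {a} ha => dvd_neg.mpr ha }
    have h1 : Nat.card W1 = p ^ (n - 1) * p ^ n :=
      card_form (W := W1) (e := (1, 0)) (f := (0, 1)) (α := 1) (β := 0) (by simp [det]) hn (Nat.zero_le _)
        (fun x => by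
          show (p : ZMod (p ^ n)) ∣ x.1 ↔ _
          simp [det])
    have h2 : Nat.card W2 = p ^ n * p ^ (n - 1) :=
      card_form (W := W2) (e := (1, 0)) (f := (0, 1)) (α := 0) (β := 1) (by simp [det]) (Nat.zero_le _) hn
        (fun x => by
          show (p : ZMod (p ^ n)) ∣ x.2 ↔ _
          simp [det])
    intro g hg
    refine ⟨?_, ?_⟩ <;> rw [pow_one]
    · exact key W1 h1 hg
    · exact key W2 (h2.trans (mul_comm _ _)) hg
  · rw [← D.closure_pow_eq hn, Subgroup.closure_le]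
    rintro _ ⟨y, rfl⟩
    rw [pow_one]
    exact Cfsg.Agent.Solvable.Basics.pow_mem_frattini hG y

theorem maximal_commutative_iff (hG : IsPGroup p G) (L : Subgroup G) :
    (IsMulCommutative L ↔ Nat.card L ≤ (commutator G).index) ∧
      (Maximal (fun K : Subgroup G => IsMulCommutative K) L ↔ Nat.card L = (commutator G).index) := by
  haveI : NeZero (p ^ n) := ⟨pow_ne_zero n hp.out.ne_zero⟩
  rw [D.index_commutator]
  have hle : ∀ L : Subgroup G, IsMulCommutative L ↔ Nat.card L ≤ Nat.card (Subgroup.center G) * p ^ n := by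
    intro L
    constructor
    · intro h
      rw [D.card_eq_mul L]
      exact Nat.mul_le_mul (Subgroup.card_le_of_le inf_le_right) ((le_orth_iff _).mp ((D.isMulCommutative_iff L).mp h))
    · intro h
      by_contra hn
      have h1 := D.card_eq_mul L
      rw [inf_eq_right.mpr (D.center_le_of_not_commutative hG hn)] at h1
      rw [h1] at h
      exact hn ((D.isMulCommutative_iff L).mpr ((le_orth_iff _).mpr (Nat.le_of_mul_le_mul_left h Nat.card_pos)))
  refine ⟨hle L, ?_⟩
  constructor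
  · intro hL
    have hiso := (D.isMulCommutative_iff L).mp hL.1
    have hZ : Subgroup.center G ≤ L := by
      have h2 : IsMulCommutative (D.pre (D.img L)) := (D.isMulCommutative_iff _).mpr (by rwa [D.img_pre])
      exact (D.center_le_pre _).trans (hL.2 h2 (D.le_pre_img L))
    rw [← D.pre_img hZ, D.card_pre]
    congr 1
    refine le_antisymm ((le_orth_iff _).mp hiso) ?_
    by_contra hc
    rw [not_le] at hc
    obtain ⟨v, hv, hvn⟩ := SetLike.exists_of_lt (lt_of_le_of_ne hiso fun e => by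
      have := card_mul_card_orth (D.img L)
      rw [← e] at this
      exact absurd this (Nat.mul_lt_mul'' hc hc).ne)
    -- enlarge
    set W' := D.img L ⊔ AddSubgroup.zmultiples v
    have hW' : W' ≤ orth W' := by
      have hvo : ∀ w ∈ W', det w v = 0 := by
        intro w hw
        obtain ⟨x, hx, y, hy, rfl⟩ := AddSubgroup.mem_sup.mp hw
        obtain ⟨k, rfl⟩ := AddSubgroup.mem_zmultiples_iff.mp hy
        have e1 := hv x hx
        simp only [det, Prod.fst_add, Prod.snd_add, Prod.smul_fst, Prod.smul_snd, zsmul_eq_mul, Prod.fst_mul, Prod.snd_mul, Prod.fst_intCast, Prod.snd_intCast] at e1 ⊢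
        linear_combination e1
      refine sup_le (fun x hx w hw => ?_) (AddSubgroup.zmultiples_le.mpr hvo)
      obtain ⟨x', hx', y, hy, rfl⟩ := AddSubgroup.mem_sup.mp hw
      obtain ⟨k, rfl⟩ := AddSubgroup.mem_zmultiples_iff.mp hy
      have e1 := hiso hx x' hx'
      have e2 := hv x hx
      simp only [det, Prod.fst_add, Prod.snd_add, Prod.smul_fst, Prod.smul_snd, zsmul_eq_mul, Prod.fst_mul, Prod.snd_mul, Prod.fst_intCast, Prod.snd_intCast] at e1 e2 ⊢
      linear_combination e1 - k * e2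
    have h3 : IsMulCommutative (D.pre W') := (D.isMulCommutative_iff _).mpr (by rwa [D.img_pre])
    have h4 := hL.2 h3 (fun x hx => AddSubgroup.mem_sup_left (D.π_mem_img hx))
    obtain ⟨g, rfl⟩ := D.surj v
    exact hvn (D.π_mem_img (h4 (AddSubgroup.mem_sup_right (AddSubgroup.mem_zmultiples _) : D.π g ∈ W')))
  · intro h
    exact ⟨(hle L).mpr h.le, fun K hK hLK => (Subgroup.eq_of_le_of_card_ge hLK (h ▸ (hle K).mp hK)).ge⟩

theorem card_mul_card_center (hG : IsPGroup p G) (R : Subgroup G) :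
    Nat.card R * Nat.card (Subgroup.center R) ≤ (commutator G).index ^ 2 ∧
      (Nat.card R * Nat.card (Subgroup.center R) = (commutator G).index ^ 2 ↔
        ¬ IsMulCommutative R ∨ Maximal (fun K : Subgroup G => IsMulCommutative K) R) := by
  haveI : NeZero (p ^ n) := ⟨pow_ne_zero n hp.out.ne_zero⟩
  obtain ⟨h1, h2⟩ := D.maximal_commutative_iff hG R
  by_cases hR : IsMulCommutative R
  · have hc : Nat.card (Subgroup.center R) = Nat.card R := by
      haveI := hR
      rw [show Subgroup.center R = ⊤ from eq_top_iff.mpr fun x _ =>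
        Subgroup.mem_center_iff.mpr fun y => IsMulCommutative.is_comm.comm y x, Subgroup.card_top]
    rw [hc, h2, ← sq]
    refine ⟨Nat.pow_le_pow_left (h1.mp hR) 2, ⟨fun h => Or.inr (Nat.pow_left_injective two_ne_zero h), ?_⟩⟩
    rintro (h | h)
    · exact absurd hR h
    · rw [h]
  · have hZ := D.center_le_of_not_commutative hG hR
    have hc : Nat.card (Subgroup.center R) = Nat.card (D.pre (orth (D.img R))) := by
      have hsub : D.pre (orth (D.img R)) ≤ R := by
        rw [← D.pre_img hZ, D.img_pre]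
        rcases orth_total (D.img R) with h | h
        · exact absurd ((D.isMulCommutative_iff R).mpr h) hR
        · exact fun g hg => h hg
      rw [← Nat.card_congr (Subgroup.subgroupOfEquivOfLe hsub).toEquiv, ← D.centralizer_eq]
      refine congrArg (fun H : Subgroup R => Nat.card H) ?_
      ext x
      simp only [Subgroup.mem_center_iff, Subgroup.mem_subgroupOf, Subgroup.mem_centralizer_iff]
      exact ⟨fun h y hy => congrArg Subtype.val (h ⟨y, hy⟩), fun h y => Subtype.ext (h y y.2)⟩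
    have he : Nat.card R * Nat.card (Subgroup.center R) = (commutator G).index ^ 2 := by
      rw [hc, ← D.centralizer_eq, D.card_mul_centralizer, inf_eq_right.mpr hZ, D.index_commutator, D.card_group]
      ring
    exact ⟨he.le, ⟨fun _ => Or.inl hR, fun _ => he⟩⟩

end Coord

/-- coordinates exist -/
theorem exists_coord {G : Type*} [Group G] [Finite G] (hodd : p ≠ 2) (hG : IsPGroup p G) (hmc : Cfsg.IsMetacyclic G) :
    ∃ m : ℕ, Nonempty (Coord G p m) := by
  obtain ⟨D⟩ := exists_gens hG hmc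
  exact D.exists_coord hodd

end Cfsg.Agent.GenA.Metacyclic
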